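import Groth.Agent.Lib.Depth.Local
import Mathlib.RingTheory.Ideal.GoingDown
import Mathlib.RingTheory.Localization.LocalizationLocalization
import Mathlib.RingTheory.KrullDimension.Module
import Mathlib.RingTheory.Regular.RegularSequence

/-!
# Depth of a finite extension with going down, and of its direct summand

For a finite injective extension `A → R` of Noetherian rings satisfying going down, a bound
`min c (ht q) ≤ depth R_q` for all primes `q` of `R` gives `min c (dim A_p) ≤ depth R_p` over `A_p`,
and, if `A` is an `A`-linear direct summand of `R`, the same bound for `depth A_p`.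
-/

set_option autoImplicit false

universe u v w

open RingTheory.Sequence LocCoh IsLocalRing Pointwise

namespace Groth.Agent.Lib.FinGrpQuot.Depth

open Groth.Agent.Lib.Depth

section Retract

variable {R : Type u} [CommRing R]

lemma isWeaklyRegular_of_retract : ∀ (rs : List R) {M : Type v} [AddCommGroup M] [Module R M]
    {N : Type v} [AddCommGroup N] [Module R N] (i : N →ₗ[R] M) (π : M →ₗ[R] N),
    π ∘ₗ i = LinearMap.id → IsWeaklyRegular M rs → IsWeaklyRegular N rs := by
  intro rs
  induction rs with
  | nil => intro M _ _ N _ _ i π _ _; exact IsWeaklyRegular.nil R N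
  | cons r rs ih =>
    intro M _ _ N _ _ i π h hM
    rw [isWeaklyRegular_cons_iff] at hM ⊢
    refine ⟨fun a b hab => ?_, ih (QuotSMulTop.map r i) (QuotSMulTop.map r π) ?_ hM.2⟩
    · have h1 : i a = i b := hM.1 (by simp only [← map_smul]; exact congrArg i hab)
      have h2 := congrArg π h1
      rwa [← LinearMap.comp_apply, ← LinearMap.comp_apply, h] at h2
    · refine LinearMap.ext fun x => ?_
      obtain ⟨y, rfl⟩ := Submodule.Quotient.mk_surjective _ x
      simp only [LinearMap.comp_apply, QuotSMulTop.map_apply_mk, LinearMap.id_apply]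
      rw [← LinearMap.comp_apply, h, LinearMap.id_apply]

lemma idealDepth_le_of_retract (I : Ideal R) {M N : Type v} [AddCommGroup M] [Module R M]
    [AddCommGroup N] [Module R N] (i : N →ₗ[R] M) (π : M →ₗ[R] N) (h : π ∘ₗ i = LinearMap.id) :
    idealDepth I M ≤ idealDepth I N := by
  refine ENat.forall_natCast_le_iff_le.mp fun n hn => ?_
  rw [Basic.le_idealDepth_iff] at hn ⊢
  rcases hn with h' | ⟨rs, hl, hmem, hreg⟩
  · left
    have hs : Function.Surjective π := fun x => ⟨i x, LinearMap.congr_fun h x⟩
    rw [← LinearMap.range_eq_top.mpr hs, ← Submodule.map_top, ← Submodule.map_smul'', h']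
  · exact Or.inr ⟨rs, hl, hmem, isWeaklyRegular_of_retract rs i π h hreg⟩

end Retract

section Main

variable {A R : Type u} [CommRing A] [CommRing R] [IsNoetherianRing A] [Algebra A R]
  [Module.Finite A R] [Algebra.HasGoingDown A R]

lemma height_eq (q : Ideal R) [q.IsPrime] : q.height = (q.under A).height := by
  haveI : IsNoetherianRing R := IsNoetherianRing.of_finite A R
  haveI : Algebra.IsIntegral A R := Algebra.IsIntegral.of_finite A R
  haveI : q.LiesOver (q.under A) := ⟨rfl⟩
  rw [Ideal.height_eq_height_add_of_liesOver_of_hasGoingDown (q.under A) q]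
  have hmin := Ideal.IsIntegral.mem_minimalPrimes_map_under (R := A) q
  set J := (q.under A).map (algebraMap A R)
  haveI : (q.map (Ideal.Quotient.mk J)).IsPrime :=
    Ideal.map_isPrime_of_surjective Ideal.Quotient.mk_surjective
      (by rw [Ideal.mk_ker]; exact hmin.1.2)
  have h0 : q.map (Ideal.Quotient.mk J) ∈ minimalPrimes (R ⧸ J) := by
    have hq : J.minimalPrimes = Ideal.comap (Ideal.Quotient.mk J) '' minimalPrimes (R ⧸ J) :=
      Ideal.minimalPrimes_eq_comap
    rw [hq] at hmin
    obtain ⟨P, hP, hPq⟩ := hmin
    rw [← hPq, Ideal.map_comap_of_surjective _ Ideal.Quotient.mk_surjective]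
    exact hP
  rw [Ideal.height_eq_zero_iff.mpr h0, add_zero]

theorem min_le_depth (hinj : Function.Injective (algebraMap A R)) (c : WithBot ℕ∞)
    (hR : ∀ (q : Ideal R) [q.IsPrime], min c (q.height : WithBot ℕ∞) ≤
      (depth (Localization.AtPrime q) (LocalizedModule q.primeCompl R) : WithBot ℕ∞))
    (p : Ideal A) [p.IsPrime] :
    min c (ringKrullDim (Localization.AtPrime p)) ≤
        (depth (Localization.AtPrime p) (LocalizedModule p.primeCompl R) : WithBot ℕ∞) ∧
      Module.supportDim (Localization.AtPrime p) (LocalizedModule p.primeCompl R) =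
        ringKrullDim (Localization.AtPrime p) ∧
      ∀ E : R →ₗ[A] A, (∀ a, E (algebraMap A R a) = a) →
        depth (Localization.AtPrime p) (LocalizedModule p.primeCompl R) ≤
          depth (Localization.AtPrime p) (LocalizedModule p.primeCompl A) := by
  haveI : IsNoetherianRing R := IsNoetherianRing.of_finite A R
  set M := Algebra.algebraMapSubmonoid R p.primeCompl
  let Ap := Localization.AtPrime p
  let R' := Localization M
  refine ⟨?_, ?_, fun E hE => ?_⟩
  · haveI : IsLocalizedModule p.primeCompl (IsScalarTower.toAlgHom A R R').toLinearMap :=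
      isLocalizedModule_iff_isLocalization.mpr inferInstance
    have e : LocalizedModule p.primeCompl R ≃ₗ[Ap] R' :=
      (IsLocalizedModule.linearEquiv p.primeCompl (LocalizedModule.mkLinearMap p.primeCompl R)
        (IsScalarTower.toAlgHom A R R').toLinearMap).extendScalarsOfIsLocalization p.primeCompl Ap
    haveI : Module.Finite Ap R' :=
      Module.Finite.of_isLocalizedModule (S := p.primeCompl) (Rₚ := Ap)
        (IsScalarTower.toAlgHom A R R').toLinearMap
    haveI : IsNoetherianRing R' := IsLocalization.isNoetherianRing M _ inferInstance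
    rw [Basic.depth_congr e, LocCoh.depth,
      Local.idealDepth_eq_map_of_finite (A := Ap) (B := R') (M := R'), Local.idealDepth_eq_iInf]
    have key : ∀ Q : PrimeSpectrum R', (maximalIdeal Ap).map (algebraMap Ap R') ≤ Q.asIdeal →
        min c (ringKrullDim Ap) ≤ (depth (Localization.AtPrime Q.asIdeal)
          (LocalizedModule Q.asIdeal.primeCompl R') : WithBot ℕ∞) := by
      intro Q hQ
      set q := Q.asIdeal.comap (algebraMap R R') with hq
      have hqp : q.under A = p := by
        have hQp : Q.asIdeal.under Ap = maximalIdeal Ap :=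
          ((IsLocalRing.maximalIdeal.isMaximal Ap).eq_of_le
            (Ideal.IsPrime.under _ _).ne_top (Ideal.map_le_iff_le_comap.mp hQ)).symm
        rw [← IsLocalization.AtPrime.comap_maximalIdeal Ap p, ← hQp, hq]
        ext a
        change algebraMap R R' (algebraMap A R a) ∈ Q.asIdeal ↔
          algebraMap Ap R' (algebraMap A Ap a) ∈ Q.asIdeal
        rw [← IsScalarTower.algebraMap_apply, ← IsScalarTower.algebraMap_apply]
      have hd : ringKrullDim Ap = (q.height : WithBot ℕ∞) := by
        rw [IsLocalization.AtPrime.ringKrullDim_eq_height p Ap, height_eq (A := A) q]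
        simp only [hqp]
      rw [hd]
      refine (hR q).trans (le_of_eq ?_)
      let φ := IsLocalization.localizationLocalizationAtPrimeIsoLocalization M Q.asIdeal
      letI : Algebra (Localization.AtPrime q) (Localization.AtPrime Q.asIdeal) :=
        φ.toRingEquiv.toRingHom.toAlgebra
      have e1 : LocalizedModule q.primeCompl R ≃ₗ[Localization.AtPrime q] Localization.AtPrime q :=
        (IsLocalizedModule.linearEquiv q.primeCompl (LocalizedModule.mkLinearMap q.primeCompl R)
          (Algebra.linearMap R (Localization.AtPrime q))).extendScalarsOfIsLocalization q.primeCompl _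
      have e2 : LocalizedModule Q.asIdeal.primeCompl R' ≃ₗ[Localization.AtPrime Q.asIdeal]
          Localization.AtPrime Q.asIdeal :=
        (IsLocalizedModule.linearEquiv Q.asIdeal.primeCompl
          (LocalizedModule.mkLinearMap Q.asIdeal.primeCompl R')
          (Algebra.linearMap R' (Localization.AtPrime Q.asIdeal))).extendScalarsOfIsLocalization
            Q.asIdeal.primeCompl _
      have e3 : Localization.AtPrime q ≃ₗ[Localization.AtPrime q] Localization.AtPrime Q.asIdeal :=
        LinearEquiv.ofBijective (Algebra.linearMap _ _) φ.bijective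
      rw [Basic.depth_congr e1, Basic.depth_congr e2, Basic.depth_congr e3,
        Basic.depth_eq_of_surjective (S := Localization.AtPrime Q.asIdeal) φ.surjective]
    generalize min c (ringKrullDim Ap) = a at key ⊢
    cases a with
    | bot => exact bot_le
    | coe a => exact WithBot.coe_le_coe.mpr (le_iInf₂ fun Q hQ => WithBot.coe_le_coe.mp (key Q hQ))
  · refine (Module.supportDim_le_ringKrullDim _ _).antisymm ?_
    rw [← Module.supportDim_self_eq_ringKrullDim]
    let i : Ap →ₗ[Ap] LocalizedModule p.primeCompl R :=
      LinearMap.toSpanSingleton Ap _ (LocalizedModule.mk (1 : R) 1)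
    refine Module.supportDim_le_of_injective i ?_
    rw [injective_iff_map_eq_zero]
    intro x hx
    obtain ⟨⟨a, s⟩, rfl⟩ := IsLocalization.mk'_surjective p.primeCompl x
    simp only [← Localization.mk_eq_mk'] at hx ⊢
    change Localization.mk a s • LocalizedModule.mk (1 : R) (1 : p.primeCompl) = 0 at hx
    rw [LocalizedModule.mk_smul_mk, mul_one, ← LocalizedModule.zero_mk (s : p.primeCompl),
      LocalizedModule.mk_eq] at hx
    obtain ⟨t, ht⟩ := hx
    have h0 : (t : A) * ((s : A) * a) = 0 := hinj (by
      simpa [Submonoid.smul_def, Algebra.smul_def, map_mul, mul_assoc] using ht)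
    rw [Localization.mk_eq_mk', IsLocalization.mk'_eq_zero_iff]
    exact ⟨t * s, by rw [Submonoid.coe_mul, mul_assoc]; exact h0⟩
  · let i := LocalizedModule.map p.primeCompl (Algebra.linearMap A R)
    let π := LocalizedModule.map p.primeCompl E
    refine idealDepth_le_of_retract _ i π (LinearMap.ext fun x => ?_)
    induction x using LocalizedModule.induction_on with
    | _ a s => simp [i, π, LocalizedModule.map_mk, hE]

end Main

end Groth.Agent.Lib.FinGrpQuot.Depth
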