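import Groth.Agent.Lib.FinGrpQuot.Norm
import Groth.Agent.Lib.FinGrpQuot.Depth
import Groth.Agent.Lib.Comod.Invariants

/-!
# Depth of invariants of a linearly reductive finite group scheme
-/

set_option autoImplicit false

universe u

open LocCoh IsLocalRing TensorProduct

namespace Groth.Agent.Lib.FinGrpQuot.Invariants

variable {k : Type u} [Field k] {H : Type u} [CommRing H] [HopfAlgebra k H] [Module.Finite k H]
  {R : Type u} [CommRing R] [Algebra k R] [Algebra.FiniteType k R] [HopfRep.Comod k H R]
  [GLin.IsCoactAlg k H R]

omit [Module.Finite k H] [Algebra.FiniteType k R] in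
lemma exists_retraction (hG : HopfRep.IsLinearlyReductive k H) :
    ∃ E : R →ₗ[GLin.invariants k H R] GLin.invariants k H R,
      ∀ a, E (algebraMap (GLin.invariants k H R) R a) = a := by
  obtain ⟨E, hE⟩ := Comod.Reynolds.exists_isReynolds (A := H) R hG
  refine ⟨{ toFun := fun x => ⟨E x, hE.mem x⟩
            map_add' := fun x y => Subtype.ext (map_add E x y)
            map_smul' := fun a x => Subtype.ext ?_ }, fun a => Subtype.ext (hE.apply_of_mem a.2)⟩
  change E ((a : R) * x) = (a : R) * E x
  rw [mul_comm, Comod.Invariants.reynolds_mul_invariant hG hE x a.2, mul_comm]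

theorem min_le_depth (hG : HopfRep.IsLinearlyReductive k H) (c : WithBot ℕ∞)
    (hR : ∀ (q : Ideal R) [q.IsPrime], min c (q.height : WithBot ℕ∞) ≤
      (depth (Localization.AtPrime q) (LocalizedModule q.primeCompl R) : WithBot ℕ∞))
    (p : Ideal (GLin.invariants k H R)) [p.IsPrime] :
    min c (ringKrullDim (Localization.AtPrime p)) ≤
        (depth (Localization.AtPrime p) (LocalizedModule p.primeCompl R) : WithBot ℕ∞) ∧
      min c (ringKrullDim (Localization.AtPrime p)) ≤
        (depth (Localization.AtPrime p)
          (LocalizedModule p.primeCompl (GLin.invariants k H R)) : WithBot ℕ∞) ∧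
      Module.supportDim (Localization.AtPrime p) (LocalizedModule p.primeCompl R) =
        ringKrullDim (Localization.AtPrime p) := by
  have := Norm.moduleFinite (k := k) (H := H) (R := R)
  have := Norm.finiteType (k := k) (H := H) (R := R)
  have : IsNoetherianRing (GLin.invariants k H R) :=
    Algebra.FiniteType.isNoetherianRing k _
  have := Norm.hasGoingDown (k := k) (H := H) (R := R)
  obtain ⟨h1, h2, h3⟩ := Depth.min_le_depth (A := GLin.invariants k H R) (R := R)
    Subtype.val_injective c hR p
  obtain ⟨E, hE⟩ := exists_retraction (R := R) hG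
  exact ⟨h1, h1.trans (WithBot.coe_le_coe.mpr (h3 E hE)), h2⟩

lemma supportDim_self_localized {A : Type u} [CommRing A] (p : Ideal A) [p.IsPrime] :
    Module.supportDim (Localization.AtPrime p) (LocalizedModule p.primeCompl A) =
      ringKrullDim (Localization.AtPrime p) := by
  rw [← Module.supportDim_self_eq_ringKrullDim]

lemma depth_self_localized {A : Type u} [CommRing A] (p : Ideal A) [p.IsPrime] :
    depth (Localization.AtPrime p) (LocalizedModule p.primeCompl A) =
      depth (Localization.AtPrime p) (Localization.AtPrime p) :=
  Groth.Agent.Lib.Depth.Basic.depth_congr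
    ((IsLocalizedModule.linearEquiv p.primeCompl (LocalizedModule.mkLinearMap p.primeCompl A)
      (Algebra.linearMap A (Localization.AtPrime p))).extendScalarsOfIsLocalization p.primeCompl _)

end Groth.Agent.Lib.FinGrpQuot.Invariants
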