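import Groth.Prelude.Def_GLin
import Groth.Agent.H66.Integral
import Mathlib.RingTheory.HopfAlgebra.Convolution
import Mathlib.RingTheory.TensorProduct.Free
import Mathlib.RingTheory.LocalRing.ResidueField.Ideal
import Mathlib.LinearAlgebra.Charpoly.ToMatrix
import Mathlib.LinearAlgebra.Matrix.Charpoly.Coeff
import Mathlib.RingTheory.Artinian.Module
import Mathlib.Algebra.Polynomial.Lifts
import Mathlib.RingTheory.FiniteType
import Mathlib.RingTheory.Adjoin.Tower
import Mathlib.RingTheory.IntegralClosure.IsIntegralClosure.Basic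
import Mathlib.RingTheory.Ideal.GoingUp
import Mathlib.RingTheory.Ideal.GoingDown
import Mathlib.RingTheory.Flat.Stability

/-!
# Quotients of affine schemes by finite group schemes

`k` a field, `H` a finite-dimensional commutative Hopf algebra coacting on a `k`-algebra `R` by an
algebra map. The characteristic polynomial of the coaction has invariant coefficients, so `R` is
integral over the invariants; primes over the same prime are translates, and going down holds.
-/

set_option autoImplicit false
set_option linter.unusedSectionVars false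

universe u v w w'

open TensorProduct Polynomial

namespace Groth.Agent.Lib.FinGrpQuot.Norm

noncomputable section

variable {k : Type u} [Field k] {H : Type v} [CommRing H] [HopfAlgebra k H]

section Mat

variable [Module.Finite k H] (S : Type w) [CommRing S] [Algebra k S]

/-- multiplication matrix on `S ⊗ H` over `S` -/
def mat : S ⊗[k] H →ₐ[S] Matrix (Fin (Module.finrank k H)) (Fin (Module.finrank k H)) S :=
  Algebra.leftMulMatrix (Algebra.TensorProduct.basis S (Module.finBasis k H))

lemma mat_tmul (s : S) (h : H) :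
    mat S (s ⊗ₜ[k] h) =
      s • (Algebra.leftMulMatrix (Module.finBasis k H) h).map (algebraMap k S) := by
  ext i j
  rw [mat, Algebra.leftMulMatrix_eq_repr_mul, Algebra.TensorProduct.basis_apply,
    Algebra.TensorProduct.tmul_mul_tmul, mul_one, Algebra.TensorProduct.basis_repr_tmul,
    Matrix.smul_apply, Matrix.map_apply, Algebra.leftMulMatrix_eq_repr_mul, Finsupp.smul_apply,
    Finsupp.mapRange_apply]

variable {S} {S' : Type w'} [CommRing S'] [Algebra k S']

lemma mat_map (φ : S →ₐ[k] S') (y : S ⊗[k] H) :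
    mat S' (Algebra.TensorProduct.map φ (AlgHom.id k H) y) = (mat S y).map φ := by
  induction y using TensorProduct.induction_on with
  | zero => rw [map_zero, map_zero, map_zero]; exact (Matrix.map_zero _ (map_zero φ)).symm
  | tmul s h =>
    rw [Algebra.TensorProduct.map_tmul, AlgHom.id_apply, mat_tmul, mat_tmul]
    ext i j
    simp
  | add x y hx hy =>
    rw [map_add, map_add, map_add, hx, hy, Matrix.map_add _ (map_add φ)]

variable (S) in
/-- the characteristic polynomial of an element of `S ⊗ H` -/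
def cp (y : S ⊗[k] H) : S[X] := (mat S y).charpoly

lemma cp_map (φ : S →ₐ[k] S') (y : S ⊗[k] H) :
    cp S' (Algebra.TensorProduct.map φ (AlgHom.id k H) y) = (cp S y).map φ := by
  rw [cp, cp, mat_map]
  exact (Matrix.charpoly_map (mat S y) φ.toRingHom)

lemma aeval_cp (y : S ⊗[k] H) : Polynomial.aeval y (cp S y) = 0 := by
  apply Algebra.leftMulMatrix_injective (Algebra.TensorProduct.basis S (Module.finBasis k H))
  rw [map_zero, ← Polynomial.aeval_algHom_apply]
  exact Matrix.aeval_self_charpoly _

lemma cp_equiv (Φ : S ⊗[k] H ≃ₐ[S] S ⊗[k] H) (y : S ⊗[k] H) : cp S (Φ y) = cp S y := by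
  haveI : Module.Finite S (S ⊗[k] H) := Module.Finite.base_change _ _ _
  have h : ∀ z, cp S z = (Algebra.lmul S (S ⊗[k] H) z).charpoly := fun z => by
    rw [cp, mat, ← Algebra.toMatrix_lmul_eq, LinearMap.charpoly_toMatrix]
    rfl
  rw [h, h, ← Φ.toLinearEquiv.charpoly_conj (Algebra.lmul S (S ⊗[k] H) y)]
  congr 1
  refine LinearMap.ext fun z => ?_
  simp [LinearEquiv.conj_apply]

end Mat

section Coact

variable [Module.Finite k H] {R : Type w} [CommRing R] [Algebra k R] [HopfRep.Comod k H R]
  [GLin.IsCoactAlg k H R]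

local notation "ρ" => GLin.coactAlgHom k H R
local notation "Rinv" => GLin.invariants k H R

/-- `r ⊗ h ↦ r ⊗ h₁ ⊗ h₂` -/
def g : H →ₐ[k] (R ⊗[k] H) ⊗[k] H :=
  (Algebra.TensorProduct.map Algebra.TensorProduct.includeRight (AlgHom.id k H)).comp
    (Bialgebra.comulAlgHom k H)

/-- the endomorphism `r ⊗ a ⊗ b ↦ r ⊗ a b₁ ⊗ b₂` -/
def Φ : (R ⊗[k] H) ⊗[k] H →ₐ[R ⊗[k] H] (R ⊗[k] H) ⊗[k] H :=
  Algebra.TensorProduct.lift (Algebra.ofId _ _) (g (k := k)) fun _ _ => Commute.all _ _

lemma Φ_tmul (z : R ⊗[k] H) (b : H) :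
    Φ (k := k) (R := R) (z ⊗ₜ[k] b) = (z ⊗ₜ[k] (1 : H)) * g (k := k) b := by
  rw [Φ, Algebra.TensorProduct.lift_tmul, Algebra.ofId_apply, Algebra.TensorProduct.algebraMap_apply,
    Algebra.algebraMap_self, RingHom.id_apply]

lemma comp_conv {A T T' : Type*} [CommRing T] [CommRing T'] [Algebra k T] [Algebra k T']
    [CommRing A] [Bialgebra k A] (F : T →ₐ[k] T') (f f' : WithConv (A →ₐ[k] T)) :
    WithConv.toConv (F.comp (f * f').ofConv) =
      WithConv.toConv (F.comp f.ofConv) * WithConv.toConv (F.comp f'.ofConv) := by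
  apply WithConv.ofConv_injective
  refine AlgHom.ext fun a => ?_
  change F (Algebra.TensorProduct.lmul' k (Algebra.TensorProduct.map f.ofConv f'.ofConv
      (Bialgebra.comulAlgHom k A a))) =
    Algebra.TensorProduct.lmul' k (Algebra.TensorProduct.map (F.comp f.ofConv) (F.comp f'.ofConv)
      (Bialgebra.comulAlgHom k A a))
  induction Bialgebra.comulAlgHom k A a using TensorProduct.induction_on with
  | zero => simp
  | tmul x y => simp
  | add x y hx hy => simp only [map_add, hx, hy]

lemma Φ_surjective : Function.Surjective (Φ (k := k) (H := H) (R := R)) := by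
  let jM : WithConv (H →ₐ[k] (R ⊗[k] H) ⊗[k] H) :=
    WithConv.toConv (Algebra.TensorProduct.includeLeft.comp Algebra.TensorProduct.includeRight)
  let jR : WithConv (H →ₐ[k] (R ⊗[k] H) ⊗[k] H) :=
    WithConv.toConv Algebra.TensorProduct.includeRight
  have hg : WithConv.toConv (g (k := k) (R := R)) = jM * jR := by
    apply WithConv.ofConv_injective
    refine AlgHom.ext fun b => ?_
    change Algebra.TensorProduct.map Algebra.TensorProduct.includeRight (AlgHom.id k H)
        (Bialgebra.comulAlgHom k H b) =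
      Algebra.TensorProduct.lmul' k (Algebra.TensorProduct.map jM.ofConv jR.ofConv
        (Bialgebra.comulAlgHom k H b))
    induction Bialgebra.comulAlgHom k H b using TensorProduct.induction_on with
    | zero => simp
    | tmul x y => simp [jM, jR, Algebra.TensorProduct.tmul_mul_tmul, Algebra.TensorProduct.one_def]
    | add x y hx hy => simp only [map_add, hx, hy]
  let F : (R ⊗[k] H) ⊗[k] H →ₐ[k] (R ⊗[k] H) ⊗[k] H := (Φ (k := k) (R := R)).restrictScalars k
  let jMi : WithConv (H →ₐ[k] (R ⊗[k] H) ⊗[k] H) :=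
    WithConv.toConv (jM.ofConv.comp (HopfAlgebra.antipodeAlgHom k H))
  have hcancel : jMi * jM = 1 := by
    have h1 : jMi * jM = WithConv.toConv (jM.ofConv.comp (WithConv.toConv
        (HopfAlgebra.antipodeAlgHom k H) * WithConv.toConv (AlgHom.id k H)).ofConv) := by
      rw [comp_conv]; rfl
    rw [h1, AlgHom.antipode_id_cancel]
    apply WithConv.ofConv_injective
    refine AlgHom.ext fun b => ?_
    change jM.ofConv (algebraMap k H (Bialgebra.counitAlgHom k H b)) = algebraMap k _ _
    exact jM.ofConv.commutes _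
  have hMi : WithConv.toConv (F.comp jMi.ofConv) = jMi := by
    apply WithConv.ofConv_injective
    refine AlgHom.ext fun b => ?_
    change Φ (jM.ofConv (HopfAlgebra.antipodeAlgHom k H b)) = _
    simp [jM, Φ_tmul]
    rfl
  have hR : WithConv.toConv (F.comp jR.ofConv) = jM * jR := by
    rw [← hg]
    apply WithConv.ofConv_injective
    refine AlgHom.ext fun b => ?_
    change Φ ((1 : R ⊗[k] H) ⊗ₜ[k] b) = g (k := k) b
    rw [Φ_tmul, ← Algebra.TensorProduct.one_def, one_mul]
  have key : WithConv.toConv (F.comp (jMi * jR).ofConv) = jR := by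
    rw [comp_conv, hMi, hR]
    exact (mul_assoc jMi jM jR).symm.trans ((congrArg (· * jR) hcancel).trans (one_mul jR))
  intro z
  induction z using TensorProduct.induction_on with
  | zero => exact ⟨0, map_zero _⟩
  | tmul s b =>
    refine ⟨(s ⊗ₜ[k] (1 : H)) * (jMi * jR).ofConv b, ?_⟩
    have hb := congrArg (fun f : WithConv (H →ₐ[k] (R ⊗[k] H) ⊗[k] H) => f.ofConv b) key
    rw [map_mul, Φ_tmul, map_one, mul_one]
    change _ * F _ = _
    rw [show F ((jMi * jR).ofConv b) = (1 : R ⊗[k] H) ⊗ₜ[k] b from hb,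
      Algebra.TensorProduct.tmul_mul_tmul, mul_one, one_mul]
  | add x y hx hy =>
    obtain ⟨x', rfl⟩ := hx
    obtain ⟨y', rfl⟩ := hy
    exact ⟨x' + y', map_add _ _ _⟩

/-- `Φ` as an equivalence -/
def Φe : (R ⊗[k] H) ⊗[k] H ≃ₐ[R ⊗[k] H] (R ⊗[k] H) ⊗[k] H :=
  AlgEquiv.ofBijective Φ ⟨OrzechProperty.injective_of_surjective_endomorphism
    (Φ (k := k) (H := H) (R := R)).toLinearMap Φ_surjective, Φ_surjective⟩

lemma map_coact_coact (x : R) :
    Algebra.TensorProduct.map ρ (AlgHom.id k H) (ρ x) =
      Φe (k := k) (Algebra.TensorProduct.map (Algebra.TensorProduct.includeLeft : R →ₐ[k] R ⊗[k] H)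
        (AlgHom.id k H) (ρ x)) := by
  have h1 : ∀ y : R ⊗[k] H, Algebra.TensorProduct.map ρ (AlgHom.id k H) y =
      (HopfRep.Comod.coact (k := k) (A := H)).rTensor H y := fun y => by
    induction y using TensorProduct.induction_on with
    | zero => simp
    | tmul a b => simp
    | add a b ha hb => simp only [map_add, ha, hb]
  rw [h1, GLin.coactAlgHom_apply, Groth.Agent.H66.Base.coassoc_symm_apply]
  induction HopfRep.Comod.coact (k := k) (A := H) x using TensorProduct.induction_on with
  | zero => simp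
  | tmul r b =>
    change _ = Φ (Algebra.TensorProduct.map _ _ (r ⊗ₜ[k] b))
    rw [Algebra.TensorProduct.map_tmul, AlgHom.id_apply, Φ_tmul, LinearMap.lTensor_tmul, g,
      AlgHom.comp_apply, Bialgebra.comulAlgHom_apply]
    induction CoalgebraStruct.comul (R := k) b using TensorProduct.induction_on with
    | zero => simp
    | tmul c d => simp [Algebra.TensorProduct.tmul_mul_tmul]
    | add c d hc hd => simp only [map_add, TensorProduct.tmul_add, mul_add, hc, hd]
  | add a b ha hb => simp only [map_add, ha, hb]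

variable (k H) in
/-- the characteristic polynomial of `x` under the action -/
def χ (x : R) : R[X] := cp R (ρ x)

lemma monic_χ (x : R) : (χ k H x).Monic := Matrix.charpoly_monic _

lemma coeff_χ_mem (x : R) (i : ℕ) : (χ k H x).coeff i ∈ Rinv := by
  rw [GLin.mem_invariants_iff, ← GLin.coactAlgHom_apply]
  have h : (χ k H x).map (ρ).toRingHom =
      (χ k H x).map (Algebra.TensorProduct.includeLeft : R →ₐ[k] R ⊗[k] H).toRingHom := by
    refine (cp_map ρ (ρ x)).symm.trans ?_
    rw [map_coact_coact, cp_equiv, cp_map]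
    rfl
  have := congrArg (fun p => coeff p i) h
  simpa using this

/-- counit of the second factor -/
def E : R ⊗[k] H →ₐ[R] R :=
  Algebra.TensorProduct.lift (AlgHom.id R R)
    ((Algebra.ofId k R).comp (Bialgebra.counitAlgHom k H)) fun _ _ => Commute.all _ _

lemma E_coact (x : R) : E (k := k) (ρ x) = x := by
  have h : ∀ y : R ⊗[k] H, E (k := k) y =
      TensorProduct.rid k R ((CoalgebraStruct.counit (R := k) (A := H)).lTensor R y) := fun y => by
    induction y using TensorProduct.induction_on with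
    | zero => simp
    | tmul a b => simp [E, Algebra.smul_def, mul_comm]
    | add a b ha hb => simp only [map_add, ha, hb]
  rw [h, GLin.coactAlgHom_apply, Groth.Agent.H66.Base.rid_counit_apply]

lemma aeval_χ (x : R) : Polynomial.aeval x (χ k H x) = 0 := by
  conv_lhs => arg 1; rw [← E_coact (k := k) (H := H) x]
  rw [Polynomial.aeval_algHom_apply, χ, aeval_cp, map_zero]

lemma coeff_zero_χ_mem {I : Ideal R} {x : R} (hx : x ∈ I) : (χ k H x).coeff 0 ∈ I := by
  refine Ideal.coeff_zero_mem_comap_of_root_mem (f := RingHom.id R) hx ?_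
  simpa [Polynomial.eval₂_eq_eval_map, Polynomial.aeval_def] using aeval_χ (k := k) (H := H) x

instance isIntegral : Algebra.IsIntegral Rinv R := ⟨fun x => by
  have hl : χ k H x ∈ Polynomial.lifts (algebraMap Rinv R) := by
    rw [Polynomial.lifts_iff_coeff_lifts]
    exact fun i => ⟨⟨_, coeff_χ_mem x i⟩, rfl⟩
  obtain ⟨p, hp, -, hmon⟩ := Polynomial.lifts_and_natDegree_eq_and_monic hl (monic_χ x)
  refine ⟨p, hmon, ?_⟩
  rw [Polynomial.eval₂_eq_eval_map, hp]
  simpa [Polynomial.aeval_def, Polynomial.eval₂_eq_eval_map] using aeval_χ (k := k) (H := H) x⟩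

lemma moduleFinite [Algebra.FiniteType k R] : Module.Finite Rinv R :=
  haveI := Algebra.FiniteType.of_restrictScalars_finiteType k Rinv R
  Algebra.IsIntegral.finite

lemma finiteType [Algebra.FiniteType k R] : Algebra.FiniteType k Rinv :=
  haveI := moduleFinite (k := k) (H := H) (R := R)
  ⟨fg_of_fg_of_fg k Rinv R Algebra.FiniteType.out Module.Finite.fg_top Subtype.val_injective⟩

/-- the map to the fibre of the first projection over `q` -/
def fib (q : Ideal R) [q.IsPrime] : R ⊗[k] H →ₐ[k] q.ResidueField ⊗[k] H :=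
  Algebra.TensorProduct.map (IsScalarTower.toAlgHom k R q.ResidueField) (AlgHom.id k H)

lemma exists_fib {x : R} {q : Ideal R} [q.IsPrime] (hx : (χ k H x).coeff 0 ∈ q) :
    ∃ m : PrimeSpectrum (q.ResidueField ⊗[k] H), fib q (ρ x) ∈ m.asIdeal := by
  have hnu : ¬ IsUnit (fib q (ρ x)) := by
    intro hu
    have h1 : IsUnit (mat (k := k) q.ResidueField (fib q (ρ x))).det :=
      (Matrix.isUnit_iff_isUnit_det _).mp (hu.map (mat q.ResidueField))
    apply h1.ne_zero
    have h2 : (cp q.ResidueField (fib q (ρ x))).coeff 0 = 0 := by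
      rw [fib, cp_map, Polynomial.coeff_map]
      change algebraMap R q.ResidueField _ = 0
      rw [← RingHom.mem_ker, Ideal.ker_algebraMap_residueField]
      exact hx
    rw [Matrix.det_eq_sign_charpoly_coeff]
    change _ * (cp q.ResidueField (fib q (ρ x))).coeff 0 = 0
    rw [h2, mul_zero]
  obtain ⟨m, hm, hmem⟩ := exists_max_ideal_of_mem_nonunits hnu
  exact ⟨⟨m, hm.isPrime⟩, hmem⟩

lemma comap_fib (q : Ideal R) [q.IsPrime] (m : PrimeSpectrum (q.ResidueField ⊗[k] H)) :
    (m.asIdeal.comap (fib q)).comap (algebraMap R (R ⊗[k] H)) = q := by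
  have h : ∀ r, fib (k := k) (H := H) q (algebraMap R _ r) =
      algebraMap q.ResidueField _ (algebraMap R q.ResidueField r) := fun r => by
    simp [fib, Algebra.TensorProduct.algebraMap_apply]
  have h0 : m.asIdeal.comap (algebraMap q.ResidueField (q.ResidueField ⊗[k] H)) = ⊥ :=
    (Ideal.eq_bot_or_top _).resolve_right
      (Ideal.IsPrime.comap (algebraMap q.ResidueField (q.ResidueField ⊗[k] H))).ne_top
  ext r
  rw [Ideal.mem_comap, Ideal.mem_comap, h, ← Ideal.mem_comap, h0, Ideal.mem_bot,
    ← RingHom.mem_ker, Ideal.ker_algebraMap_residueField]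

lemma coact_eq_of_mem {a : R} (ha : a ∈ Rinv) : ρ a = algebraMap R (R ⊗[k] H) a := by
  rw [GLin.coactAlgHom_apply, show HopfRep.Comod.coact (k := k) (A := H) a = a ⊗ₜ[k] (1 : H) from ha,
    Algebra.TensorProduct.algebraMap_apply, Algebra.algebraMap_self, RingHom.id_apply]

/-- Primes of `R` over the same prime of the invariants are translates of each other. -/
theorem exists_translate (q q' : Ideal R) [q.IsPrime] [q'.IsPrime]
    (h : q.under Rinv = q'.under Rinv) :
    ∃ Q : Ideal (R ⊗[k] H), Q.IsPrime ∧ Q.comap (algebraMap R (R ⊗[k] H)) = q ∧ Q.comap ρ = q' := by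
  classical
  haveI : IsArtinianRing (q.ResidueField ⊗[k] H) :=
    haveI : Module.Finite q.ResidueField (q.ResidueField ⊗[k] H) := Module.Finite.base_change _ _ _
    isArtinian_of_tower q.ResidueField inferInstance
  haveI : Fintype (PrimeSpectrum (q.ResidueField ⊗[k] H)) := Fintype.ofFinite _
  let o : PrimeSpectrum (q.ResidueField ⊗[k] H) → Ideal R :=
    fun m => (m.asIdeal.comap (fib q)).comap ρ
  have hunion : (q' : Set R) ⊆ ⋃ m ∈ (↑(Finset.univ : Finset (PrimeSpectrum (q.ResidueField ⊗[k] H))) : Set _), (o m : Set R) := by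
    intro x hx
    have h0 : (χ k H x).coeff 0 ∈ q := by
      have h' : (⟨_, coeff_χ_mem x 0⟩ : Rinv) ∈ q'.under Rinv := coeff_zero_χ_mem hx
      rw [← h] at h'
      exact h'
    obtain ⟨m, hm⟩ := exists_fib h0
    exact Set.mem_biUnion (Finset.mem_univ m) hm
  obtain ⟨m, -, hle⟩ : ∃ m ∈ (Finset.univ : Finset (PrimeSpectrum (q.ResidueField ⊗[k] H))), q' ≤ o m := by
    rcases Finset.univ.eq_empty_or_nonempty (α := PrimeSpectrum (q.ResidueField ⊗[k] H)) with he | hne
    · exact absurd (hunion q'.zero_mem) (by simp [he])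
    · exact (Ideal.subset_union_prime hne.choose hne.choose fun i _ _ _ => inferInstance).mp hunion
  refine ⟨m.asIdeal.comap (fib q), inferInstance, comap_fib q m, ?_⟩
  have ho : (o m).under Rinv = q.under Rinv := by
    ext ⟨a, ha⟩
    change fib q (ρ a) ∈ m.asIdeal ↔ a ∈ q
    rw [coact_eq_of_mem ha, ← Ideal.mem_comap, ← Ideal.mem_comap, comap_fib]
  by_contra hne
  have hlt : q' < o m := lt_of_le_of_ne hle (Ne.symm hne)
  exact (Ideal.IsIntegral.comap_lt_comap (R := Rinv) hlt).ne (h.symm.trans ho.symm)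

/-- the automorphism `r ⊗ h ↦ ρ r * (1 ⊗ h)` -/
def Θ : R ⊗[k] H ≃ₐ[k] R ⊗[k] H :=
  AlgEquiv.ofBijective (Algebra.TensorProduct.lift ρ Algebra.TensorProduct.includeRight
      fun _ _ => Commute.all _ _) <| by
    have h : ∀ y : R ⊗[k] H, Algebra.TensorProduct.lift ρ Algebra.TensorProduct.includeRight
        (fun _ _ => Commute.all _ _) y = Groth.Agent.H66.Integral.shear R LinearMap.id y := fun y => by
      induction y using TensorProduct.induction_on with
      | zero => simp
      | tmul r a =>
        rw [Algebra.TensorProduct.lift_tmul, Groth.Agent.H66.Integral.shear_tmul,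
          LinearMap.lTensor_id_apply, GLin.coactAlgHom_apply]
        induction HopfRep.Comod.coact (k := k) (A := H) r using TensorProduct.induction_on with
        | zero => simp
        | tmul c d => simp [Algebra.TensorProduct.tmul_mul_tmul]
        | add c d hc hd => simp only [add_mul, map_add, hc, hd]
      | add a b ha hb => simp only [map_add, ha, hb]
    refine ⟨fun a b hab => ?_, fun b => ⟨Groth.Agent.H66.Integral.shearInv R b, ?_⟩⟩
    · rw [h, h] at hab
      rw [← Groth.Agent.H66.Integral.shearInv_shear a, hab,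
        Groth.Agent.H66.Integral.shearInv_shear]
    · rw [h, Groth.Agent.H66.Integral.shear_shearInv]

lemma Θ_algebraMap (r : R) : Θ (k := k) (H := H) (algebraMap R (R ⊗[k] H) r) = ρ r := by
  change Algebra.TensorProduct.lift (ρ) Algebra.TensorProduct.includeRight (fun _ _ => Commute.all _ _)
    (r ⊗ₜ[k] (1 : H)) = _
  rw [Algebra.TensorProduct.lift_tmul, map_one, mul_one]

/-- Going down from the ring to its invariants. -/
theorem hasGoingDown : Algebra.HasGoingDown Rinv R := by
  refine ⟨fun {p'} _ q _ hlt => ?_⟩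
  obtain ⟨q1, -, hq1p, hq1⟩ := Ideal.exists_ideal_over_prime_of_isIntegral p' (⊥ : Ideal R)
    (le_of_eq_of_le ((RingHom.ker_eq_comap_bot _).symm.trans
      ((RingHom.injective_iff_ker_eq_bot _).mp Subtype.val_injective)) bot_le)
  obtain ⟨q2, hq12, hq2p, hq2⟩ := Ideal.exists_ideal_over_prime_of_isIntegral (q.under Rinv) q1
    (by rw [hq1]; exact hlt.le)
  obtain ⟨Q, hQ, hQq, hQq2⟩ := exists_translate q q2 hq2.symm
  haveI : (Q.comap Θ).LiesOver q2 := ⟨by
    rw [← hQq2]; ext r
    change ρ r ∈ Q ↔ Θ (algebraMap R (R ⊗[k] H) r) ∈ Q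
    rw [Θ_algebraMap]⟩
  obtain ⟨Q0, hQ0, hQ0p, hQ0over⟩ := Ideal.exists_ideal_le_liesOver_of_le (S := R ⊗[k] H)
    (Q.comap Θ) hq12
  let Q1 := Q0.comap (Θ (k := k) (H := H) (R := R)).symm
  refine ⟨Q1.comap (algebraMap R (R ⊗[k] H)), ?_, inferInstance, ⟨?_⟩⟩
  · rw [← hQq]
    refine Ideal.comap_mono fun z hz => ?_
    have := hQ0 (show Θ.symm z ∈ Q0 from hz)
    change Θ (Θ.symm z) ∈ Q at this
    rwa [AlgEquiv.apply_symm_apply] at this
  · rw [← hq1, hQ0over.over]
    ext ⟨a, ha⟩
    change algebraMap R _ a ∈ Q0 ↔ Θ.symm (algebraMap R (R ⊗[k] H) a) ∈ Q0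
    rw [← coact_eq_of_mem ha, ← Θ_algebraMap, AlgEquiv.symm_apply_apply, Θ_algebraMap,
      coact_eq_of_mem ha]

end Coact

end

end Groth.Agent.Lib.FinGrpQuot.Norm
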